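import Mathlib
import Cfsg.Agent.Lib.CH2.Van
import Cfsg.Agent.Lib.FGS.ClassSize
import Cfsg.Agent.Lib.Deg.Thompson
import Cfsg.Agent.Lib.Deg.Frob
import Cfsg.Agent.Lib.Char.DegreeP
import Cfsg.Agent.Lib.Par.Van

/-!
# Non-vanishing elements (helper14)

Non-vanishing elements of nilpotent groups are central; a `p`-element fixing every irreducible
character of a normal `p'`-subgroup centralizes it.
-/

set_option autoImplicit false

namespace H14.Par

open Cfsg H22.Van

universe u

theorem exists_fixed_of_not_dvd {α : Type*} {p : ℕ} [Fact p.Prime] {S : Set α} (hS : S.Finite)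
    (f : α → α) (hf : ∀ a ∈ S, f a ∈ S) {e : ℕ} (he : ∀ a ∈ S, f^[p ^ e] a = a)
    (h : ¬ p ∣ S.ncard) : ∃ a ∈ S, f a = a := by
  classical
  haveI := hS.fintype
  let F : Function.End S := fun a => ⟨f a, hf a a.2⟩
  have hF : ∀ (n : ℕ) (a : S), (((F ^ n) a : S) : α) = f^[n] a := by
    intro n
    induction n with
    | zero => intro a; rfl
    | succ n ih =>
      intro a
      rw [pow_succ', Function.iterate_succ_apply', ← ih]
      rfl
  have hf1 : F ^ p ^ e = 1 := by
    funext a
    exact Subtype.ext ((hF _ a).trans (he a a.2))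
  have h1 := Equiv.Perm.card_fixedPoints_modEq hf1
  by_contra hc
  push Not at hc
  have h2 : Fintype.card (Function.fixedPoints F) = 0 :=
    Fintype.card_eq_zero_iff.2 ⟨fun a => hc a.1.1 a.1.2 (congrArg Subtype.val a.2)⟩
  rw [h2, ← Nat.card_eq_fintype_card, Nat.card_coe_set_eq] at h1
  exact h ((Nat.modEq_zero_iff_dvd).1 h1)

/-- Non-central elements of a nilpotent group are vanishing. -/
theorem van_of_nilpotent (n : ℕ) : ∀ (P : Type u) [Group P] [Finite P] [Group.IsNilpotent P],
    Nat.card P = n → ∀ g : P, g ∉ Subgroup.center P → Van g := by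
  induction n using Nat.strong_induction_on with
  | _ n ih =>
  intro P _ _ _ hn g hg
  by_cases h : (g : P ⧸ Subgroup.center P) ∈ Subgroup.center (P ⧸ Subgroup.center P)
  · obtain ⟨y, hy⟩ : ∃ y, y * g ≠ g * y := by
      by_contra hc
      push Not at hc
      exact hg (Subgroup.mem_center_iff.2 hc)
    have hz : y * g * y⁻¹ * g⁻¹ ∈ Subgroup.center P := by
      rw [← QuotientGroup.eq_one_iff]
      have := Subgroup.mem_center_iff.1 h (y : P ⧸ Subgroup.center P)
      simp only [QuotientGroup.mk_mul, QuotientGroup.mk_inv]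
      rw [this]; group
    set z := y * g * y⁻¹ * g⁻¹ with hzd
    have hle : Subgroup.zpowers z ≤ Subgroup.center P := Subgroup.zpowers_le.2 hz
    haveI : (Subgroup.zpowers z).Normal := ⟨fun a ha b => by
      rw [Subgroup.mem_center_iff.1 (hle ha) b, mul_inv_cancel_right]; exact ha⟩
    refine van_of_conj (N := Subgroup.zpowers z) (fun e => hy ?_) fun a ha => ?_
    · rw [Subgroup.zpowers_eq_bot] at e
      calc y * g = z * (g * y) := by rw [hzd]; group
        _ = g * y := by rw [e, one_mul]
    · obtain ⟨i, rfl⟩ := (Submonoid.mem_powers_iff _ _).1 (mem_powers_iff_mem_zpowers.2 ha)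
      refine ⟨y ^ i, ?_⟩
      clear ha
      induction i with
      | zero => simp
      | succ i ih2 =>
        have e1 : y * g * y⁻¹ = z * g := by rw [hzd]; group
        have e2 := Subgroup.mem_center_iff.1 (pow_mem hz i) y
        calc y ^ (i + 1) * g * (y ^ (i + 1))⁻¹ = y * (y ^ i * g * (y ^ i)⁻¹) * y⁻¹ := by group
          _ = (y * z ^ i) * g * y⁻¹ := by rw [ih2]; group
          _ = z ^ i * (y * g * y⁻¹) := by rw [e2]; group
          _ = z ^ (i + 1) * g := by rw [e1]; group
  · haveI : Nontrivial P := ⟨⟨g, 1, fun e => hg (e ▸ one_mem _)⟩⟩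
    refine Van.lift (f := QuotientGroup.mk' (Subgroup.center P)) (QuotientGroup.mk'_surjective _)
      (ih _ ?_ _ rfl _ h)
    have h1 := (Subgroup.one_lt_card_iff_ne_bot _).2 (Group.IsNilpotent.center_ne_bot P)
    rw [← hn, ← (Subgroup.center P).card_mul_index]
    have h2 : 0 < (Subgroup.center P).index := Nat.pos_of_ne_zero Subgroup.index_ne_zero_of_finite
    change (Subgroup.center P).index < _
    nlinarith

variable {G : Type*} [Group G] [Finite G] {p : ℕ} [hp : Fact p.Prime]

/-- A `p`-element fixing every class of a normal `p'`-subgroup centralizes it. -/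
theorem comm_of_isConj {K : Subgroup G} [hK : K.Normal] (hKp : ¬ p ∣ Nat.card K) {g : G} {e : ℕ}
    (hg : g ^ p ^ e = 1)
    (h : ∀ k : K, IsConj k ⟨g * k * g⁻¹, hK.conj_mem k k.2 g⟩) : ∀ k ∈ K, g * k = k * g := by
  have h1 : (Subgroup.centralizer ({g} : Set G)).subgroupOf K = ⊤ := by
    refine H80.eq_top_of_forall_exists_conj_mem fun k => ?_
    obtain ⟨a, ha, hf⟩ := exists_fixed_of_not_dvd (p := p) (S := {y : K | IsConj k y})
      (Set.toFinite _) (MulAut.conjNormal g) (fun a ha => IsConj.trans ha (h a)) (e := e)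
      (fun a _ => by
        have : ∀ n : ℕ, (MulAut.conjNormal g)^[n] a = MulAut.conjNormal (g ^ n) a := fun n => by
          induction n with
          | zero => simp
          | succ n ih => rw [Function.iterate_succ_apply', ih, pow_succ', map_mul]; rfl
        rw [this, hg]; simp)
      (by rw [H80.ncard_isConj]; exact fun hd => hKp (hd.trans (Subgroup.index_dvd_card _)))
    obtain ⟨c, rfl⟩ := isConj_iff.1 ha
    refine ⟨c, ?_⟩
    rw [Subgroup.mem_subgroupOf, Subgroup.mem_centralizer_singleton_iff]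
    have := congrArg Subtype.val hf
    rw [MulAut.conjNormal_apply] at this
    exact (mul_inv_eq_iff_eq_mul.1 this).symm
  intro k hk
  have : (⟨k, hk⟩ : K) ∈ (Subgroup.centralizer ({g} : Set G)).subgroupOf K := h1 ▸ Subgroup.mem_top _
  exact (Subgroup.mem_centralizer_singleton_iff.1 this).symm

/-- A `p`-element fixing every irreducible character of a normal `p'`-subgroup centralizes it. -/
theorem comm_of_inertia {K : Subgroup G} [hK : K.Normal] (hKp : ¬ p ∣ Nat.card K) {g : G} {e : ℕ}
    (hg : g ^ p ^ e = 1) (h : ∀ θ : IrrCharacter K, g ∈ H7.inertia (θ : K → ℂ)) :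
    ∀ k ∈ K, g * k = k * g :=
  comm_of_isConj hKp hg fun k => (H6.isConj_iff_irr _ _).2 fun θ =>
    (H7.mem_inertia'.1 (h θ) k).symm

/-- If all vanishing elements are `p`-elements, all nonlinear degrees are divisible by `p`. -/
theorem dvd_deg_of_van (h : ∀ g : G, Van g → ∃ m, g ^ p ^ m = 1) {χ : G → ℂ}
    (hχ : IsIrrCharacter G χ) (h1 : charDegree χ ≠ 1) : p ∣ charDegree χ := by
  obtain ⟨g, hg⟩ := exists_zero hχ h1
  obtain ⟨m, hm⟩ := h g ⟨⟨χ, hχ⟩, hg⟩
  exact H31.dvd_degree_of_eq_zero (H6.irr_isCharacter hχ) hp.out hm hg (H87.irr_deg_cast hχ).symm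

end H14.Par
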